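import Mathlib

/-!
# S2355 (Jones' theorem for alternating and classical groups): shared definitions and generic lemmas

`IsLaw w G`: the word `w : FreeGroup ℕ` is a law in `G`.
`gen R t i`: the matrix `[[1 + t^(2(i+1)), t^(i+1)], [t^(i+1), 1]] ∈ SL₂(R)`.
`AltBound w n₀`, `SLBound w D`: the two inputs every family piece uses.
-/

set_option autoImplicit false

namespace Cfsg.Agent.Lib.Helper29.Law

open Matrix
open scoped commutatorElement

/-- `w` is a law in `G`. -/
def IsLaw (w : FreeGroup ℕ) (G : Type*) [Group G] : Prop :=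
  ∀ f : ℕ → G, FreeGroup.lift f w = 1

section transfer

variable {w : FreeGroup ℕ} {G H : Type*} [Group G] [Group H]

theorem lift_comp (φ : G →* H) (f : ℕ → G) (w : FreeGroup ℕ) :
    FreeGroup.lift (fun i => φ (f i)) w = φ (FreeGroup.lift f w) := by
  have h : (FreeGroup.lift (fun i => φ (f i))) = φ.comp (FreeGroup.lift f) := by
    ext i
    simp
  rw [h]
  rfl

theorem IsLaw.of_injective (φ : H →* G) (hφ : Function.Injective φ) (h : IsLaw w G) : IsLaw w H := by
  intro f
  apply hφ
  rw [← lift_comp, map_one]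
  exact h _

theorem IsLaw.of_surjective (φ : G →* H) (hφ : Function.Surjective φ) (h : IsLaw w G) : IsLaw w H := by
  intro f
  choose g hg using fun i => hφ (f i)
  have : f = fun i => φ (g i) := funext fun i => (hg i).symm
  rw [this, lift_comp, h g, map_one]

theorem IsLaw.of_mulEquiv (e : G ≃* H) (h : IsLaw w G) : IsLaw w H :=
  h.of_surjective e.toMonoidHom e.surjective

theorem IsLaw.lift_mem_center (h : IsLaw w (G ⧸ Subgroup.center G)) (f : ℕ → G) :
    FreeGroup.lift f w ∈ Subgroup.center G := by
  have h1 := h (fun i => (QuotientGroup.mk' (Subgroup.center G)) (f i))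
  rw [lift_comp] at h1
  exact (QuotientGroup.eq_one_iff _).1 h1

/-- If `φ` is injective and `φ x` is central then `x` is central. -/
theorem mem_center_of_injective (φ : H →* G) (hφ : Function.Injective φ) {x : H}
    (hx : φ x ∈ Subgroup.center G) : x ∈ Subgroup.center H := by
  rw [Subgroup.mem_center_iff] at hx ⊢
  intro y
  apply hφ
  rw [map_mul, map_mul]
  exact hx (φ y)

end transfer

/-- The generators: `[[1 + t^(2(i+1)), t^(i+1)], [t^(i+1), 1]] = [[1,g],[0,1]] * [[1,0],[g,1]]`, `g = t^(i+1)`. -/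
def gen (R : Type*) [CommRing R] (t : R) (i : ℕ) : SpecialLinearGroup (Fin 2) R :=
  ⟨!![1 + t ^ (i + 1) * t ^ (i + 1), t ^ (i + 1); t ^ (i + 1), 1], by
    rw [Matrix.det_fin_two_of]; ring⟩

theorem gen_map {R S : Type*} [CommRing R] [CommRing S] (φ : R →+* S) (t : R) (i : ℕ) :
    SpecialLinearGroup.map φ (gen R t i) = gen S (φ t) i := by
  apply Subtype.ext
  ext a b
  rw [Matrix.SpecialLinearGroup.map_apply_coe, RingHom.mapMatrix_apply, Matrix.map_apply]
  fin_cases a <;> fin_cases b <;> simp [gen]

/-- `n₀` bounds the degree of alternating groups in which `w` is a law. -/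
def AltBound (w : FreeGroup ℕ) (n₀ : ℕ) : Prop :=
  ∀ n : ℕ, IsLaw w (alternatingGroup (Fin n)) → n < n₀

/-- `D` bounds the number of parameters `τ` for which `w(gen τ)` has both off-diagonal entries zero. -/
def SLBound (w : FreeGroup ℕ) (D : ℕ) : Prop :=
  ∀ (F : Type) [Field F] (T : Finset F), D < T.card →
    ∃ τ ∈ T, ∃ a b : Fin 2, a ≠ b ∧
      (FreeGroup.lift (fun i => gen F τ i) w : Matrix (Fin 2) (Fin 2) F) a b ≠ 0

/-- The common bound on the order of the classical groups. -/
def bnd (n₀ D : ℕ) : ℕ := ((max D 2) ^ 2) ^ ((2 * (max n₀ 5) + 2) ^ 2)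

section sl2

variable {F : Type*} [Field F]

/-- upper elementary matrix -/
def E12 (F : Type*) [Field F] : SpecialLinearGroup (Fin 2) F :=
  ⟨!![1, 1; 0, 1], by rw [Matrix.det_fin_two_of]; ring⟩

/-- lower elementary matrix -/
def E21 (F : Type*) [Field F] : SpecialLinearGroup (Fin 2) F :=
  ⟨!![1, 0; 1, 1], by rw [Matrix.det_fin_two_of]; ring⟩

theorem offDiag_eq_zero_of_commute (x : SpecialLinearGroup (Fin 2) F)
    (h1 : x * E12 F = E12 F * x) (h2 : x * E21 F = E21 F * x) (a b : Fin 2) (hab : a ≠ b) :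
    (x : Matrix (Fin 2) (Fin 2) F) a b = 0 := by
  have e1 : (x : Matrix (Fin 2) (Fin 2) F) * (E12 F : Matrix (Fin 2) (Fin 2) F)
      = (E12 F : Matrix (Fin 2) (Fin 2) F) * (x : Matrix (Fin 2) (Fin 2) F) := by
    rw [← Matrix.SpecialLinearGroup.coe_mul, ← Matrix.SpecialLinearGroup.coe_mul, h1]
  have e2 : (x : Matrix (Fin 2) (Fin 2) F) * (E21 F : Matrix (Fin 2) (Fin 2) F)
      = (E21 F : Matrix (Fin 2) (Fin 2) F) * (x : Matrix (Fin 2) (Fin 2) F) := by
    rw [← Matrix.SpecialLinearGroup.coe_mul, ← Matrix.SpecialLinearGroup.coe_mul, h2]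
  have a1 := congrFun (congrFun e1 0) 0
  have a2 := congrFun (congrFun e2 1) 1
  simp [E12, E21, Matrix.mul_apply, Fin.sum_univ_two] at a1 a2
  fin_cases a <;> fin_cases b
  · exact absurd rfl hab
  · simpa using a2
  · simpa using a1
  · exact absurd rfl hab

theorem offDiag_eq_zero_of_mem_center (x : SpecialLinearGroup (Fin 2) F)
    (hx : x ∈ Subgroup.center (SpecialLinearGroup (Fin 2) F)) (a b : Fin 2) (hab : a ≠ b) :
    (x : Matrix (Fin 2) (Fin 2) F) a b = 0 := by
  rw [Subgroup.mem_center_iff] at hx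
  exact offDiag_eq_zero_of_commute x (hx _).symm (hx _).symm a b hab

end sl2

section generic

variable {w : FreeGroup ℕ} {n₀ D : ℕ}

/-- [G-alt] -/
theorem AltBound.lt_of_injective (hA : AltBound w n₀) {G : Type*} [Group G] {k : ℕ} (hk : 5 ≤ k)
    (φ : alternatingGroup (Fin k) →* G) (hφ : Function.Injective φ)
    (hlaw : IsLaw w (G ⧸ Subgroup.center G)) : k < n₀ := by
  apply hA
  refine IsLaw.of_injective ((QuotientGroup.mk' (Subgroup.center G)).comp φ) ?_ hlaw
  rw [injective_iff_map_eq_one]
  intro x hx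
  have hx' : φ x ∈ Subgroup.center G := (QuotientGroup.eq_one_iff _).1 hx
  have hc := mem_center_of_injective φ hφ hx'
  have h4 : 4 ≤ Nat.card (Fin k) := by simp; omega
  rw [alternatingGroup.center_eq_bot h4] at hc
  exact hc

/-- [G-sl] -/
theorem SLBound.card_le_of_injective (hS : SLBound w D) {G : Type*} [Group G] (F : Type) [Field F]
    [Fintype F] (φ : SpecialLinearGroup (Fin 2) F →* G) (hφ : Function.Injective φ)
    (hlaw : IsLaw w (G ⧸ Subgroup.center G)) : Fintype.card F ≤ D := by
  by_contra hcon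
  push Not at hcon
  obtain ⟨τ, -, a, b, hab, hne⟩ := hS F Finset.univ (by simpa using hcon)
  have h1 := hlaw.lift_mem_center (fun i => φ (gen F τ i))
  rw [lift_comp] at h1
  have h2 := mem_center_of_injective φ hφ h1
  exact hne (offDiag_eq_zero_of_mem_center _ h2 a b hab)

/-- [G-perf] a perfect group maps into the commutator subgroup. -/
theorem exists_hom_commutator {H K : Type*} [Group H] [Group K] (hH : commutator H = ⊤)
    (φ : H →* K) : ∃ ψ : H →* commutator K, ∀ h, (ψ h : K) = φ h := by
  have hle : ∀ h : H, φ h ∈ commutator K := by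
    intro h
    have hh : h ∈ commutator H := by rw [hH]; trivial
    have := Subgroup.map_commutator (⊤ : Subgroup H) ⊤ φ
    have h3 : φ h ∈ Subgroup.map φ (commutator H) := Subgroup.mem_map_of_mem φ hh
    rw [commutator_def, this] at h3
    exact Subgroup.commutator_mono le_top le_top h3
  exact ⟨φ.codRestrict _ hle, fun h => rfl⟩

theorem alt_perfect {k : ℕ} (hk : 5 ≤ k) : commutator (alternatingGroup (Fin k)) = ⊤ := by
  have hsimple : IsSimpleGroup (alternatingGroup (Fin k)) :=
    alternatingGroup.isSimpleGroup (by simp; omega)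
  rcases IsSimpleGroup.eq_bot_or_eq_top_of_normal (commutator (alternatingGroup (Fin k))) inferInstance with h | h
  · exfalso
    have hcomm : ∀ a b : alternatingGroup (Fin k), a * b = b * a := by
      intro a b
      have hm : ⁅a, b⁆ ∈ commutator (alternatingGroup (Fin k)) :=
        Subgroup.commutator_mem_commutator (Subgroup.mem_top a) (Subgroup.mem_top b)
      rw [h, Subgroup.mem_bot, commutatorElement_eq_one_iff_mul_comm] at hm
      exact hm
    have hcen : Subgroup.center (alternatingGroup (Fin k)) = ⊤ := by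
      rw [eq_top_iff]
      intro a _
      rw [Subgroup.mem_center_iff]
      intro b
      exact hcomm b a
    rw [alternatingGroup.center_eq_bot (by simp; omega)] at hcen
    have : Nontrivial (alternatingGroup (Fin k)) := IsSimpleGroup.toNontrivial
    exact bot_ne_top hcen
  · exact h

end generic

end Cfsg.Agent.Lib.Helper29.Law
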