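import Cfsg.Agent.Lib.Helper29.Law.Defs
import Cfsg.Prelude.Def_Classical
import Cfsg.Agent.Lib.Helper11.LawE1
import Cfsg.Agent.Lib.Helper9.LawE2
import Cfsg.Agent.Lib.Helper2.LawALT1
import Cfsg.Agent.Lib.Helper16.LawP1
import Cfsg.Agent.Lib.Helper21.LawP2
import Cfsg.Agent.Lib.Helper20.LawSPGL
import Cfsg.Agent.Lib.Helper19.LawOPLUS
import Cfsg.Agent.Lib.Helper19.LawOODD
import Cfsg.Agent.Lib.Helper17.LawOMINUS
import Cfsg.Agent.Lib.Helper16.LawUA
import Cfsg.Agent.Lib.Helper12.LawUF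
import Cfsg.Agent.Lib.Helper12.LawUB
import Cfsg.Agent.Lib.Helper2.LawUS2
import Cfsg.Agent.Lib.Helper21.LawUS3
import Cfsg.Agent.Lib.Helper17.LawUD
import Cfsg.Agent.Lib.Helper15.SLNormal

/-!
# S2355: assembly of the pieces
-/

set_option autoImplicit false

namespace Cfsg.Agent.Lib.Helper29.Law

open Matrix

section card

theorem natCard_matrix (F : Type*) [Fintype F] (ι : Type*) [Fintype ι] :
    Nat.card (Matrix ι ι F) = Fintype.card F ^ (Fintype.card ι ^ 2) := by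
  show Nat.card (ι → ι → F) = _
  rw [Nat.card_fun, Nat.card_fun, Nat.card_eq_fintype_card, Nat.card_eq_fintype_card, ← pow_mul,
    pow_two]

theorem natCard_le_of_injective_matrix {X : Type*} (F : Type*) [Fintype F] (ι : Type*) [Fintype ι]
    (f : X → Matrix ι ι F) (hf : Function.Injective f) :
    Nat.card X ≤ Fintype.card F ^ (Fintype.card ι ^ 2) := by
  rw [← natCard_matrix]
  have : Finite (Matrix ι ι F) := by unfold Matrix; infer_instance
  exact Nat.card_le_card_of_injective f hf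

end card

section generic

variable {w : FreeGroup ℕ} {n₀ D : ℕ}

theorem card_le_bnd (hA : AltBound w n₀) {G : Type*} [Group G] [Finite G]
    (c N k : ℕ) (hc : c ≤ (max D 2) ^ 2) (hN : N ≤ 2 * k + 2)
    (hk : 5 ≤ k → ∃ φ : alternatingGroup (Fin k) →* G, Function.Injective φ)
    (hcard : Nat.card G ≤ c ^ (N ^ 2))
    (hlaw : IsLaw w (G ⧸ Subgroup.center G)) :
    Nat.card (G ⧸ Subgroup.center G) ≤ bnd n₀ D := by
  have hk' : k ≤ max n₀ 5 := by
    by_cases h5 : 5 ≤ k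
    · obtain ⟨φ, hφ⟩ := hk h5
      have := hA.lt_of_injective h5 φ hφ hlaw
      omega
    · omega
  have h1 : Nat.card (G ⧸ Subgroup.center G) ≤ Nat.card G :=
    Nat.card_le_card_of_surjective _ (QuotientGroup.mk'_surjective (Subgroup.center G))
  refine h1.trans (hcard.trans ?_)
  unfold bnd
  have h2 : N ^ 2 ≤ (2 * max n₀ 5 + 2) ^ 2 := Nat.pow_le_pow_left (by omega) 2
  have h3 : 0 < (max D 2) ^ 2 := by positivity
  calc c ^ (N ^ 2) ≤ ((max D 2) ^ 2) ^ (N ^ 2) := Nat.pow_le_pow_left hc _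
    _ ≤ ((max D 2) ^ 2) ^ ((2 * max n₀ 5 + 2) ^ 2) := Nat.pow_le_pow_right h3 h2

theorem card_le_of_SL (hA : AltBound w n₀) (hS : SLBound w D) (F : Type) [Field F] [Fintype F]
    {G : Type*} [Group G] [Finite G] (m N : ℕ) (hm : 2 ≤ m) (hN : N ≤ 2 * m + 2)
    (φ : SpecialLinearGroup (Fin m) F →* G) (hφ : Function.Injective φ)
    (hcard : Nat.card G ≤ Fintype.card F ^ (N ^ 2))
    (hlaw : IsLaw w (G ⧸ Subgroup.center G)) :
    Nat.card (G ⧸ Subgroup.center G) ≤ bnd n₀ D := by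
  obtain ⟨ψ, hψ⟩ := exists_SL2_to_SL F m hm
  have hF : Fintype.card F ≤ D := hS.card_le_of_injective F (φ.comp ψ) (hφ.comp hψ) hlaw
  refine card_le_bnd hA (Fintype.card F) N m ?_ hN ?_ hcard hlaw
  · calc Fintype.card F ≤ D := hF
      _ ≤ max D 2 := le_max_left _ _
      _ ≤ (max D 2) ^ 2 := Nat.le_self_pow two_ne_zero _
  · intro _
    obtain ⟨α, hα, -⟩ := exists_alt_to_SL F m
    exact ⟨φ.comp α, hφ.comp hα⟩

end generic

section families

variable {w : FreeGroup ℕ} {n₀ D : ℕ}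

theorem psl_card_le (hA : AltBound w n₀) (hS : SLBound w D) (F : Type) [Field F] [Fintype F]
    (n : ℕ) (hn : 2 ≤ n) (hlaw : IsLaw w (Matrix.ProjectiveSpecialLinearGroup (Fin n) F)) :
    Nat.card (Matrix.ProjectiveSpecialLinearGroup (Fin n) F) ≤ bnd n₀ D := by
  refine card_le_of_SL hA hS F n n hn (by omega) (MonoidHom.id _) Function.injective_id ?_ hlaw
  have := natCard_le_of_injective_matrix F (Fin n)
    (fun g : SpecialLinearGroup (Fin n) F => (g : Matrix (Fin n) (Fin n) F)) Subtype.coe_injective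
  simpa using this

theorem psp_card_le (hA : AltBound w n₀) (hS : SLBound w D) (F : Type) [Field F] [Fintype F]
    (m : ℕ) (hm : 2 ≤ m) (hlaw : IsLaw w (Cfsg.PSp m F)) :
    Nat.card (Cfsg.PSp m F) ≤ bnd n₀ D := by
  obtain ⟨φ, hφ⟩ := exists_GL_to_Sp F m
  have : Finite (Matrix (Fin m ⊕ Fin m) (Fin m ⊕ Fin m) F) := by unfold Matrix; infer_instance
  have : Finite (symplecticGroup (Fin m) F) :=
    Finite.of_injective (fun g => (g : Matrix (Fin m ⊕ Fin m) (Fin m ⊕ Fin m) F))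
      Subtype.coe_injective
  refine card_le_of_SL hA hS F m (2 * m) hm (by omega) (φ.comp SpecialLinearGroup.toGL)
    (hφ.comp SpecialLinearGroup.toGL_injective) ?_ hlaw
  have := natCard_le_of_injective_matrix F (Fin m ⊕ Fin m)
    (fun g : symplecticGroup (Fin m) F => (g : Matrix (Fin m ⊕ Fin m) (Fin m ⊕ Fin m) F))
    Subtype.coe_injective
  have h2 : Fintype.card (Fin m ⊕ Fin m) = 2 * m := by simp; ring
  rwa [h2] at this

theorem orth_card_le (hA : AltBound w n₀) (hS : SLBound w D) (F : Type) [Field F] [Fintype F]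
    {ι : Type} [Fintype ι] [DecidableEq ι] (Q : (ι → F) → F) (m : ℕ) (hm : 3 ≤ m)
    (hι : Fintype.card ι ≤ 2 * m + 2)
    (φ : GeneralLinearGroup (Fin m) F →* Cfsg.isometryGroup F Q) (hφ : Function.Injective φ)
    (hlaw : IsLaw w (Cfsg.POmega F Q)) : Nat.card (Cfsg.POmega F Q) ≤ bnd n₀ D := by
  have hperf : commutator (SpecialLinearGroup (Fin m) F) = ⊤ :=
    Cfsg.Agent.Lib.Helper15.SLn_commutator_eq_top (by simpa using hm)
  obtain ⟨ψ, hψ⟩ := exists_hom_commutator hperf (φ.comp SpecialLinearGroup.toGL)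
  have hψinj : Function.Injective ψ := by
    intro x y hxy
    apply hφ.comp SpecialLinearGroup.toGL_injective
    have := congrArg Subtype.val hxy
    rw [hψ, hψ] at this
    exact this
  have hinj : Function.Injective
      (fun g : Cfsg.Omega F Q => (((g : Cfsg.isometryGroup F Q) : GeneralLinearGroup ι F) : Matrix ι ι F)) := by
    intro x y hxy
    exact Subtype.ext (Subtype.ext (Units.ext hxy))
  have : Finite (Matrix ι ι F) := by unfold Matrix; infer_instance
  have : Finite (Cfsg.Omega F Q) := Finite.of_injective _ hinj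
  refine card_le_of_SL hA hS F m (Fintype.card ι) (by omega) hι ψ hψinj ?_ hlaw
  exact natCard_le_of_injective_matrix F ι _ hinj

theorem pomegaOdd_card_le (hA : AltBound w n₀) (hS : SLBound w D) (F : Type) [Field F] [Fintype F]
    (m : ℕ) (hm : 3 ≤ m) (hlaw : IsLaw w (Cfsg.POmega F (Cfsg.quadFormOdd m F))) :
    Nat.card (Cfsg.POmega F (Cfsg.quadFormOdd m F)) ≤ bnd n₀ D := by
  obtain ⟨φ, hφ⟩ := exists_GL_to_isomOdd F m
  exact orth_card_le hA hS F _ m hm (by simp; omega) φ hφ hlaw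

theorem pomegaPlus_card_le (hA : AltBound w n₀) (hS : SLBound w D) (F : Type) [Field F] [Fintype F]
    (m : ℕ) (hm : 3 ≤ m) (hlaw : IsLaw w (Cfsg.POmega F (Cfsg.quadFormPlus m F))) :
    Nat.card (Cfsg.POmega F (Cfsg.quadFormPlus m F)) ≤ bnd n₀ D := by
  obtain ⟨φ, hφ⟩ := exists_GL_to_isomPlus F m
  exact orth_card_le hA hS F _ m hm (by simp; omega) φ hφ hlaw

theorem pomegaMinus_card_le (hA : AltBound w n₀) (hS : SLBound w D) (F : Type) [Field F] [Fintype F]
    (m : ℕ) (hm : 3 ≤ m) (a b : F) (hlaw : IsLaw w (Cfsg.POmega F (Cfsg.quadFormMinus m F a b))) :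
    Nat.card (Cfsg.POmega F (Cfsg.quadFormMinus m F a b)) ≤ bnd n₀ D := by
  obtain ⟨φ, hφ⟩ := exists_GL_to_isomMinus F m a b
  exact orth_card_le hA hS F _ m hm (by simp; omega) φ hφ hlaw

theorem psu_card_le (hA : AltBound w n₀) (hS : SLBound w D) (F : Type) [Field F] [Fintype F]
    (n q : ℕ) (hF : Fintype.card F = q ^ 2) (hn : 3 ≤ n) (hlaw : IsLaw w (Cfsg.PSU n F q)) :
    Nat.card (Cfsg.PSU n F q) ≤ bnd n₀ D := by
  classical
  obtain ⟨hadd, -, hfix⟩ := frob_facts F q hF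
  obtain ⟨e₁, e₂, ε, hε, hεq, hdet, h11, h22, h12, h21⟩ := exists_hyperbolic_pair F q hF
  obtain ⟨φ₂, hφ₂, hmem₂⟩ := exists_SL2_to_SU2 F q hadd e₁ e₂ ε hε hεq hdet h11 h22 h12 h21
  obtain ⟨φ₃, hφ₃, hmem₃⟩ := exists_SL2_to_SL_SU F q n (by omega)
  have hq : q ≤ D := psu_q_le_of hS F q n (φ₃.comp φ₂) (hφ₃.comp hφ₂)
    (fun g hg => hmem₃ _ (hmem₂ g hg)) hadd hfix hlaw
  obtain ⟨α, hα, hperm⟩ := exists_alt_to_SL F n
  have hαmem : ∀ σ, α σ ∈ Cfsg.SU n F q := fun σ => by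
    obtain ⟨τ, hτ⟩ := hperm σ
    exact permMatrix_mem_SU F n q _ τ hτ
  have hinj : Function.Injective
      (fun g : Cfsg.SU n F q => ((g : SpecialLinearGroup (Fin n) F) : Matrix (Fin n) (Fin n) F)) := by
    intro x y hxy
    exact Subtype.ext (Subtype.ext hxy)
  refine card_le_bnd hA (q ^ 2) n n ?_ (by omega) ?_ ?_ hlaw
  · exact Nat.pow_le_pow_left (hq.trans (le_max_left _ _)) 2
  · intro _
    refine ⟨α.codRestrict _ hαmem, fun x y h => hα ?_⟩
    exact congrArg Subtype.val h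
  · have := natCard_le_of_injective_matrix F (Fin n) _ hinj
    rw [hF] at this
    simpa using this

end families

section alt

variable {w : FreeGroup ℕ} {D : ℕ}

theorem altBound_of_slBound (hS : SLBound w D) : ∃ n₀, AltBound w n₀ := by
  obtain ⟨p, hpD, hp⟩ := Nat.exists_infinite_primes (D + 1)
  have : Fact p.Prime := ⟨hp⟩
  have : Fintype (SpecialLinearGroup (Fin 2) (ZMod p)) := Fintype.ofFinite _
  refine ⟨2 * Fintype.card (SpecialLinearGroup (Fin 2) (ZMod p)), fun n hlaw => ?_⟩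
  by_contra hcon
  push Not at hcon
  obtain ⟨φ, hφ⟩ := exists_embedding_alt (SpecialLinearGroup (Fin 2) (ZMod p)) n hcon
  have hK : IsLaw w (SpecialLinearGroup (Fin 2) (ZMod p)) := hlaw.of_injective φ hφ
  obtain ⟨τ, -, a, b, hab, hne⟩ := hS (ZMod p) Finset.univ (by
    rw [Finset.card_univ, ZMod.card]; omega)
  have h1 := hK (fun i => gen (ZMod p) τ i)
  rw [h1] at hne
  exact hne (by simp [hab])

end alt

/-- The main theorem, in the shape of S2355. -/
theorem main (w : FreeGroup ℕ) (hw : w ≠ 1) :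
    ∃ N : ℕ, ∀ (G : Type*) [Group G] [Finite G],
      (Cfsg.IsAlternating G ∨ Cfsg.IsPSL G ∨ Cfsg.IsPSp G ∨ Cfsg.IsPSU G ∨ Cfsg.IsPOmegaOdd G ∨
          Cfsg.IsPOmegaPlus G ∨ Cfsg.IsPOmegaMinus G) →
      (∀ f : ℕ → G, FreeGroup.lift f w = 1) → Nat.card G ≤ N := by
  obtain ⟨D, hS⟩ := slBound_of_offDiag w (fun F _ => offDiag_ne_zero F w hw)
  obtain ⟨n₀, hA⟩ := altBound_of_slBound hS
  refine ⟨bnd n₀ D + n₀.factorial, ?_⟩
  intro G _ _ hG hlaw
  have hlaw' : IsLaw w G := hlaw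
  have key : ∀ (X : Type) [Group X], Nonempty (G ≃* X) → (IsLaw w X → Nat.card X ≤ bnd n₀ D) →
      Nat.card G ≤ bnd n₀ D + n₀.factorial := by
    intro X _ ⟨e⟩ h
    rw [Nat.card_congr e.toEquiv]
    exact (h (hlaw'.of_mulEquiv e)).trans (Nat.le_add_right _ _)
  rcases hG with h | h | h | h | h | h | h
  · obtain ⟨n, hn, ⟨e⟩⟩ := h
    have hlt : n < n₀ := hA n (hlaw'.of_mulEquiv e)
    rw [Nat.card_congr e.toEquiv]
    have h1 : Nat.card (alternatingGroup (Fin n)) ≤ Nat.card (Equiv.Perm (Fin n)) :=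
      Nat.card_le_card_of_injective _ Subtype.coe_injective
    have h2 : Nat.card (Equiv.Perm (Fin n)) = n.factorial := by
      rw [Nat.card_eq_fintype_card, Fintype.card_perm, Fintype.card_fin]
    rw [h2] at h1
    exact h1.trans ((Nat.factorial_le hlt.le).trans (Nat.le_add_left _ _))
  · obtain ⟨F, _, _, n, hn, -, he⟩ := h
    exact key _ he (psl_card_le hA hS F n hn)
  · obtain ⟨F, _, _, m, hm, -, he⟩ := h
    exact key _ he (psp_card_le hA hS F m hm)
  · obtain ⟨F, _, _, n, q, hF, hn, -, he⟩ := h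
    exact key _ he (psu_card_le hA hS F n q hF hn)
  · obtain ⟨F, _, _, m, hm, -, he⟩ := h
    exact key _ he (pomegaOdd_card_le hA hS F m hm)
  · obtain ⟨F, _, _, m, hm, he⟩ := h
    exact key _ he (pomegaPlus_card_le hA hS F m (by omega))
  · obtain ⟨F, _, _, m, a, b, hm, -, he⟩ := h
    exact key _ he (pomegaMinus_card_le hA hS F (m - 1) (by omega) a b)

end Cfsg.Agent.Lib.Helper29.Law
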